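import Cfsg.Agent.Lib.BlockStar.EqualDeg.Proj
import Cfsg.Agent.Lib.BlockRank.RankOne

/-!
# A block all of whose degrees are equal has a single projective idempotent of multiplicity one
-/

set_option autoImplicit false
set_option maxHeartbeats 1000000
set_option synthInstance.maxHeartbeats 400000

namespace CfsgLib.BlockStar.EqualDeg

open Cfsg CfsgLib.Blocks CfsgLib.Char CfsgLib.DegreeSq
open scoped ComplexConjugate Classical

universe u

variable {p : ℕ} [Fact p.Prime] {M : Ideal AlgInt} [M.IsMaximal] {G : Type u} [Group G] [Fintype G]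
  {B : Set (IrrCharacter G)} {f : ℕ}

noncomputable local instance : Field (ResField M) := Ideal.Quotient.field M

omit [Fact p.Prime] in
theorem factorization_eq_minExp (hB : IsPBlock M B)
    (hdeg : ∀ χ ∈ B, charDegree (χ : G → ℂ) = f) :
    f.factorization p = CfsgLib.BlockReg.minExp p B := by
  obtain ⟨χ, hχ, hm⟩ := CfsgLib.BlockReg.exists_minExp (p := p) (IsPBlock.nonempty hB)
  rw [← hm, hdeg χ hχ]

/-- The common degree divides the degrees of the simple modules of the block. -/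
theorem dvd_deg_pim (D : IdemData (ResField M) (MonoidAlgebra (ResField M) G))
    (hM : IsPModular p M) (hB : IsPBlock M B) (hdeg : ∀ χ ∈ B, charDegree (χ : G → ℂ) = f)
    {j : Fin D.n} (hj : j ∈ blockPIMs D hB) : f ∣ D.deg j := by
  have hp : p.Prime := Fact.out
  obtain ⟨χ₀, hχ₀⟩ := IsPBlock.nonempty hB
  have hf0 : f ≠ 0 := hdeg χ₀ hχ₀ ▸ (CfsgLib.BlockReg.deg_pos χ₀).ne'
  set a := (Nat.card G).factorization p with ha
  set m := f.factorization p with hm
  have hpm : p ^ m ∣ f := Nat.ordProj_dvd f p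
  set u := f / p ^ m with hu
  have hfu : f = p ^ m * u := (Nat.mul_div_cancel' hpm).symm
  have hpu : ¬ p ∣ u := Nat.not_dvd_ordCompl hp hf0
  have hupc : ∀ k, (p ^ k).Coprime u := fun k =>
    Nat.Coprime.pow_left _ (hp.coprime_iff_not_dvd.2 hpu)
  set IB := blockPIMs D hB
  let y : Fin D.n → ℤ := fun i => if i ∈ IB then (D.deg i : ℤ) else 0
  have hyB : ∀ χ : IrrCharacter G, ∑ i, y i * mult χ (D.eps i) =
      if χ ∈ B then (f : ℤ) else 0 := fun χ => by
    by_cases hχ : χ ∈ B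
    · rw [if_pos hχ, ← hdeg χ hχ, charDegree_eq_sum (D := D) (hB := hB) hχ,
        ← Finset.sum_subset (Finset.subset_univ IB) (fun i _ hi => by simp [y, hi])]
      refine Finset.sum_congr rfl fun i hi => ?_
      have hi' : i ∈ IB := hi
      simp only [y, if_pos hi']
    · rw [if_neg hχ]
      refine Finset.sum_eq_zero fun i _ => ?_
      by_cases hi : i ∈ IB
      · simp [mult_pim_out hi hχ]
      · simp [y, hi]
  have hpy : ∀ i, (p : ℤ) ^ m ∣ y i := pow_dvd_of_dvd_comb D hM m y fun χ => by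
    rw [hyB]
    split_ifs
    · exact_mod_cast hpm
    · exact dvd_zero _
  -- the sum of the characters of the block vanishes off the regular elements
  let c : IrrCharacter G → ℤ := fun χ => if χ ∈ B then 1 else 0
  let θ : G → ℂ := fun x => ∑ χ : IrrCharacter G, (c χ : ℂ) * (χ : G → ℂ) x
  have hθg : Cfsg.IsGeneralizedCharacter G θ :=
    CfsgLib.BlockReg.isGeneralizedCharacter_int_combination c
  have hθ : ∀ x, θ x = ∑ χ ∈ B.toFinset, (χ : G → ℂ) x := fun x => by
    simp only [θ]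
    rw [← Finset.sum_subset (Finset.subset_univ B.toFinset) fun χ _ hχ => by
      simp [c, show χ ∉ B from fun h => hχ (Set.mem_toFinset.2 h)]]
    exact Finset.sum_congr rfl fun χ hχ => by simp [c, Set.mem_toFinset.1 hχ]
  have hsing : ∀ x : G, p ∣ orderOf x → θ x = 0 := fun x hx => by
    have h := CfsgLib.BlockReg.block_orth_swap hM hB 1 x (by simp [hp.ne_one]) hx
    rw [finsum_mem_eq_toFinset_sum] at h
    have e : ∀ χ ∈ B.toFinset, (χ : G → ℂ) x * conj ((χ : G → ℂ) 1) =
        (f : ℂ) * (χ : G → ℂ) x := fun χ hχ => by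
      rw [← CfsgLib.BlockReg.deg_cast, hdeg χ (Set.mem_toFinset.1 hχ), Complex.conj_natCast,
        mul_comm]
    rw [Finset.sum_congr rfl e, ← Finset.mul_sum, ← hθ] at h
    exact (mul_eq_zero.1 h).resolve_left (Nat.cast_ne_zero.2 hf0)
  have htil : CfsgLib.BlockReg.tilde p θ = ((p ^ a : ℕ) : ℂ) • θ := by
    funext x
    by_cases hx : p ∣ orderOf x
    · simp [CfsgLib.BlockReg.tilde, hx, hsing x hx]
    · simp [CfsgLib.BlockReg.tilde, hx, ha]
  obtain ⟨z, hz⟩ := inProj_tilde D hM hθg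
  have hzc : ∀ χ : IrrCharacter G, ∑ i, z i * mult χ (D.eps i) = ((p ^ a : ℕ) : ℤ) * c χ := by
    intro χ
    have h1 := hz χ
    beta_reduce at h1
    have h2 : θ = ∑ ψ : IrrCharacter G, (c ψ : ℂ) • (ψ : G → ℂ) := by
      funext x; simp [θ, Finset.sum_apply]
    rw [htil, classInner_smul_left, h2, classInner_sum_smul_irr] at h1
    exact_mod_cast h1.symm
  have hzn : ∀ i, (f : ℤ) * z i = ((p ^ a : ℕ) : ℤ) * y i := by
    intro i
    rw [← sub_eq_zero]
    refine eq_zero_of_comb_eq_zero D hM (fun i => (f : ℤ) * z i - ((p ^ a : ℕ) : ℤ) * y i) ?_ i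
    intro χ
    calc ∑ i, ((f : ℤ) * z i - ((p ^ a : ℕ) : ℤ) * y i) * mult χ (D.eps i)
        = (f : ℤ) * ∑ i, z i * mult χ (D.eps i) -
            ((p ^ a : ℕ) : ℤ) * ∑ i, y i * mult χ (D.eps i) := by
          rw [Finset.mul_sum, Finset.mul_sum, ← Finset.sum_sub_distrib]
          exact Finset.sum_congr rfl fun i _ => by ring
      _ = 0 := by
          rw [hzc, hyB]
          by_cases hχ : χ ∈ B
          · simp only [c, if_pos hχ]; ring
          · simp [c, hχ]
  have h1 := hpy j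
  have h2 := hzn j
  simp only [y, if_pos hj] at h1 h2
  have h1' : p ^ m ∣ D.deg j := by exact_mod_cast h1
  have h2' : f ∣ p ^ a * D.deg j := by
    have : (f : ℤ) ∣ ((p ^ a * D.deg j : ℕ) : ℤ) := ⟨z j, by rw [h2]; push_cast; ring⟩
    exact_mod_cast this
  have h3 : u ∣ D.deg j :=
    (hupc a).symm.dvd_of_dvd_mul_left ((Dvd.intro_left _ hfu.symm).trans h2')
  rw [hfu]
  exact Nat.Coprime.mul_dvd_of_dvd_of_dvd (hupc m) h1' h3

omit [M.IsMaximal] in
/-- Two characters of height zero of one block are not orthogonal on the regular elements. -/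
theorem classInner_regular_ne_zero (hM : IsPModular p M) (hB : IsPBlock M B)
    {χ ψ : IrrCharacter G} (hχ : χ ∈ B) (hψ : ψ ∈ B)
    (hmχ : (charDegree (χ : G → ℂ)).factorization p = CfsgLib.BlockReg.minExp p B) :
    classInner (pRegularPart p (χ : G → ℂ)) (ψ : G → ℂ) ≠ 0 := by
  intro h0
  have h := CfsgLib.BlockReg.rInner_not_memIdeal hM hB hχ hψ hmχ
  apply h
  have he : CfsgLib.BlockReg.tilde p (χ : G → ℂ) =
      ((p ^ (Nat.card G).factorization p : ℕ) : ℂ) • pRegularPart p (χ : G → ℂ) := by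
    funext x
    by_cases hx : p ∣ orderOf x <;>
      simp [CfsgLib.BlockReg.tilde, CfsgLib.BlockRank.pRegularPart_apply, Cfsg.IsPRegular, hx]
  rw [CfsgLib.BlockReg.rInner, he, classInner_smul_left, h0, mul_zero, zero_div]
  exact CfsgLib.BlockReg.memIdeal_zero hM

/-- A block all of whose degrees are equal has rank one, as many characters as the defect group
has elements, and a projective idempotent meeting every character once. -/
theorem exists_pim (hM : IsPModular p M) (hB : IsPBlock M B)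
    (hdeg : ∀ χ ∈ B, charDegree (χ : G → ℂ) = f) :
    blockRank p B = 1 ∧ Nat.card B = p ^ blockDefect p B ∧
      ∃ η : MonoidAlgebra (ResField M) G, IsIdempotentElem η ∧
        (blockIdem hB : MonoidAlgebra (ResField M) G) * η = η ∧ ∀ χ ∈ B, mult χ η = 1 := by
  haveI := CfsgLib.DegreeSq.isAlgClosed_resField (M := M)
  haveI : FiniteDimensional (ResField M) (MonoidAlgebra (ResField M) G) :=
    Module.Finite.of_basis (MonoidAlgebra.basis G (ResField M))
  obtain ⟨D⟩ := exists_idemData (ResField M) (MonoidAlgebra (ResField M) G)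
  set IB := blockPIMs D hB
  have hmz : ∀ χ ∈ B, (charDegree (χ : G → ℂ)).factorization p =
      CfsgLib.BlockReg.minExp p B := fun χ hχ => by
    rw [hdeg χ hχ]; exact factorization_eq_minExp hB hdeg
  -- one idempotent for each character
  have hone : ∀ χ ∈ B, ∃ i ∈ IB, mult χ (D.eps i) = 1 ∧
      ∀ l ∈ IB, l ≠ i → mult χ (D.eps l) = 0 := by
    intro χ hχ
    have hs := charDegree_eq_sum (D := D) (hB := hB) hχ
    rw [hdeg χ hχ] at hs
    have hf : 0 < f := hdeg χ hχ ▸ CfsgLib.BlockReg.deg_pos χ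
    have hfl : ∀ l ∈ IB, (f : ℤ) ≤ D.deg l := fun l hl => by
      exact_mod_cast Nat.le_of_dvd (D.deg_pos l) (dvd_deg_pim D hM hB hdeg hl)
    have hnn : ∀ l, 0 ≤ (D.deg l : ℤ) * mult χ (D.eps l) := fun l =>
      mul_nonneg (Int.natCast_nonneg _) (mult_nonneg χ _)
    obtain ⟨i, hi, hine⟩ : ∃ i ∈ IB, mult χ (D.eps i) ≠ 0 := by
      by_contra h
      push Not at h
      rw [Finset.sum_eq_zero fun l hl => by rw [h l hl, mul_zero]] at hs
      omega
    have hi1 : 1 ≤ mult χ (D.eps i) := lt_of_le_of_ne (mult_nonneg χ _) (Ne.symm hine)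
    have hrest := Finset.sum_nonneg (s := IB.erase i) fun l _ => hnn l
    rw [← Finset.add_sum_erase IB _ hi] at hs
    have hfi := hfl i hi
    have hge : (f : ℤ) ≤ (D.deg i : ℤ) * mult χ (D.eps i) :=
      hfi.trans (le_mul_of_one_le_right (Int.natCast_nonneg _) hi1)
    refine ⟨i, hi, ?_, fun l hl hli => ?_⟩
    · by_contra h1
      have h2 : 2 ≤ mult χ (D.eps i) := by omega
      have := mul_le_mul_of_nonneg_left h2 (Int.natCast_nonneg (D.deg i))
      omega
    · have hz : ∑ l ∈ IB.erase i, (D.deg l : ℤ) * mult χ (D.eps l) = 0 := by omega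
      have := (Finset.sum_eq_zero_iff_of_nonneg fun l _ => hnn l).1 hz l
        (Finset.mem_erase.2 ⟨hli, hl⟩)
      exact (mul_eq_zero.1 this).resolve_left (by exact_mod_cast (D.deg_pos l).ne')
  haveI : Nonempty (Fin D.n) :=
    ⟨(hone _ (IsPBlock.nonempty hB).some_mem).choose⟩
  choose! ι hιI hι1 hι0 using hone
  obtain ⟨Φ, hΦ⟩ := exists_brauer_basis (D := D) (hB := hB) hM
  have hΦι : ∀ χ ∈ B, pRegularPart p (χ : G → ℂ) = Φ (ι χ) := by
    intro χ hχ
    rw [hΦ χ hχ, Finset.sum_eq_single (ι χ)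
      (fun l hl hne => by rw [hι0 χ hχ l hl hne, Int.cast_zero, zero_smul])
      (fun h => absurd (hιI χ hχ) h), hι1 χ hχ, Int.cast_one, one_smul]
  -- the functions are independent
  have hli : LinearIndependent ℂ (fun i : IB => Φ i.1) := by
    rw [linearIndependent_iff_card_le_finrank_span, Fintype.card_coe,
      card_pims_eq_blockRank (D := D) (hB := hB) hM, blockRank, Set.finrank]
    refine Submodule.finrank_mono (Submodule.span_mono ?_)
    rintro _ ⟨χ, hχ, rfl⟩
    exact ⟨⟨ι χ, hιI χ hχ⟩, (hΦι χ hχ).symm⟩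
  -- all characters use one idempotent
  have hconst : ∀ χ ∈ B, ∀ θ ∈ B, ι θ = ι χ := by
    intro χ hχ θ hθ
    by_contra hne
    have h1 := congrArg (CfsgLib.BlockRank.regLin (G := G) p)
      (CfsgLib.BlockRank.pRegularPart_eq_sum (CfsgLib.BlockRank.regClosed_of_isPBlock hM hB) hχ)
    simp only [map_sum, map_smul, CfsgLib.BlockRank.regLin_apply,
      CfsgLib.BlockRank.pRegularPart_idem] at h1
    rw [Finset.sum_congr rfl fun (ψ : B) _ => by rw [hΦι _ ψ.2], hΦι χ hχ] at h1
    -- collect along the idempotents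
    let co : IB → ℂ := fun l => ∑ ψ ∈ (Finset.univ : Finset B).filter (fun ψ => ι ψ.1 = l.1),
      classInner (Φ (ι χ)) ((ψ : IrrCharacter G) : G → ℂ)
    have h2 : ∑ l : IB, co l • Φ l.1 = Φ (ι χ) := by
      conv_rhs => rw [h1]
      rw [← Finset.sum_fiberwise_of_maps_to
        (g := fun ψ : B => (⟨ι ψ.1, hιI _ ψ.2⟩ : IB)) (t := Finset.univ)
        (fun ψ _ => Finset.mem_univ _)]
      refine Finset.sum_congr rfl fun l _ => ?_
      simp only [co, Finset.sum_smul]
      refine Finset.sum_congr ?_ fun ψ hψ => ?_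
      · ext ψ; simp [Subtype.ext_iff]
      · have h5 : ι ψ.1 = l.1 := congrArg Subtype.val (Finset.mem_filter.1 hψ).2
        rw [h5]
    let co' : IB → ℂ := fun l => co l - if l.1 = ι χ then 1 else 0
    have h3 : ∑ l : IB, co' l • Φ l.1 = 0 := by
      simp only [co', sub_smul, Finset.sum_sub_distrib, h2, ite_smul, one_smul, zero_smul]
      rw [Finset.sum_eq_single (⟨ι χ, hιI χ hχ⟩ : IB)
        (fun l _ hl => if_neg fun h => hl (Subtype.ext h))
        (fun h => absurd (Finset.mem_univ _) h), if_pos rfl, sub_self]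
    have h4 := Fintype.linearIndependent_iff.1 hli co' h3 ⟨ι θ, hιI θ hθ⟩
    simp only [co', if_neg hne, sub_zero, co] at h4
    have hc : ∀ ψ ∈ (Finset.univ : Finset B).filter (fun ψ => ι ψ.1 = ι θ),
        classInner (Φ (ι χ)) ((ψ : IrrCharacter G) : G → ℂ) =
          classInner (Φ (ι χ)) (θ : G → ℂ) := fun ψ hψ => by
      rw [← hΦι χ hχ, CfsgLib.BlockRank.classInner_pRegularPart_left,
        CfsgLib.BlockRank.classInner_pRegularPart_left (G := G) (χ : G → ℂ) (θ : G → ℂ),
        hΦι _ ψ.2, hΦι θ hθ, (Finset.mem_filter.1 hψ).2]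
    rw [Finset.sum_congr rfl hc, Finset.sum_const, nsmul_eq_mul] at h4
    rcases mul_eq_zero.1 h4 with h5 | h5
    · rw [Nat.cast_eq_zero, Finset.card_eq_zero] at h5
      exact Finset.notMem_empty (⟨θ, hθ⟩ : B) (h5 ▸ Finset.mem_filter.2 ⟨Finset.mem_univ _, rfl⟩)
    · rw [← hΦι χ hχ] at h5
      exact classInner_regular_ne_zero hM hB hχ hθ (hmz χ hχ) h5
  obtain ⟨χ₀, hχ₀⟩ := IsPBlock.nonempty hB
  have hrank : blockRank p B = 1 := by
    have hle : blockRank p B ≤ 1 := by
      rw [blockRank]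
      refine le_trans (Submodule.finrank_mono (Submodule.span_le.2 ?_))
        ((finrank_span_le_card ({Φ (ι χ₀)} : Set (G → ℂ))).trans (by simp))
      rintro _ ⟨χ, hχ, rfl⟩
      show pRegularPart p (χ : G → ℂ) ∈ _
      rw [hΦι χ hχ, hconst χ₀ hχ₀ χ hχ]
      exact Submodule.subset_span rfl
    have hge : 1 ≤ IB.card := Finset.card_pos.2 ⟨_, hιI χ₀ hχ₀⟩
    rw [card_pims_eq_blockRank hM] at hge
    omega
  refine ⟨hrank, ?_, D.eps (ι χ₀), D.eps_idem _, (Finset.mem_filter.1 (hιI χ₀ hχ₀)).2,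
    fun χ hχ => hconst χ₀ hχ₀ χ hχ ▸ hι1 χ hχ⟩
  obtain ⟨φ, n, d, hφ, hd, hsum⟩ := CfsgLib.BlockRank.exists_rankOne_data hM hB hrank
  have h1reg : IsPRegular p (1 : G) := by simp [IsPRegular, (Fact.out : p.Prime).ne_one]
  have hf0 : (f : ℂ) ≠ 0 :=
    Nat.cast_ne_zero.2 (hdeg χ₀ hχ₀ ▸ (CfsgLib.BlockReg.deg_pos χ₀).ne')
  have hφ1 : φ 1 = ((∑ ψ ∈ B.toFinset, n ψ : ℤ) : ℂ) * (f : ℂ) := by
    rw [hφ, Int.cast_sum, Finset.sum_mul]
    exact Finset.sum_congr rfl fun ψ hψ => by
      rw [← CfsgLib.BlockReg.deg_cast, hdeg ψ (Set.mem_toFinset.1 hψ)]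
  have hd1 : ∀ χ ∈ B.toFinset, d χ ^ 2 = 1 := by
    intro χ hχ
    have h := hd χ (Set.mem_toFinset.1 hχ) 1 h1reg
    rw [← CfsgLib.BlockReg.deg_cast, hdeg χ (Set.mem_toFinset.1 hχ), hφ1] at h
    have h2 : ((d χ : ℤ) * ∑ ψ ∈ B.toFinset, n ψ : ℤ) = 1 := by
      have : (((d χ : ℤ) * ∑ ψ ∈ B.toFinset, n ψ : ℤ) : ℂ) * (f : ℂ) = 1 * (f : ℂ) := by
        push_cast at h ⊢
        linear_combination -h
      exact_mod_cast mul_right_cancel₀ hf0 this
    rcases Int.eq_one_or_neg_one_of_mul_eq_one h2 with h3 | h3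
    · have : d χ = 1 := by exact_mod_cast h3
      rw [this, one_pow]
    · exfalso; have := Int.natCast_nonneg (d χ); omega
  rw [Finset.sum_congr rfl hd1, Finset.sum_const, smul_eq_mul, mul_one, Set.toFinset_card] at hsum
  rw [← hsum, Nat.card_eq_fintype_card]

end CfsgLib.BlockStar.EqualDeg
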