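import Cfsg.Agent.Lib.BlockStar.EqualDeg.Matrix
import Cfsg.Agent.Lib.BlockStar.Nilpotent
import Cfsg.Agent.Lib.BlockRank.Watanabe.Sections
import Cfsg.Agent.Lib.BlockRank.SectionOrth
import Cfsg.Agent.Lib.Blk83.PairFusion
import Cfsg.Agent.Lib.Blocks.Pairs.Inertial
import Cfsg.Agent.Lib.PrimTwo.Main

/-!
# Abelian defect group: equal degrees exactly for nilpotent blocks

If all degrees of the block are equal then every subsection at a defect element has rank one, so the
inertial quotient acts with as many orbits as the defect group has elements.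
-/

set_option autoImplicit false
set_option maxHeartbeats 1000000
set_option synthInstance.maxHeartbeats 400000

namespace CfsgLib.BlockStar.EqualDeg

open Cfsg CfsgLib.Blocks CfsgLib.Blocks.Pairs CfsgLib.Char
open scoped ComplexConjugate Classical

universe u

variable {p : ℕ} [Fact p.Prime] {M : Ideal AlgInt} [M.IsMaximal]

noncomputable local instance : Field (ResField M) := Ideal.Quotient.field M

/-- A block whose pairings at regular elements are multiples of the defect order has rank at most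
one. -/
theorem blockRank_le_one_of_pairing {H : Type u} [Group H] [Fintype H] (hM : IsPModular p M)
    {b : Set (IrrCharacter H)} (hb : IsPBlock M b) {d : ℕ} (hd : blockDefect p b = d)
    (hK : ∀ s t : H, IsPRegular p s → IsPRegular p t →
      MemLocalRing M ((∑ ψ ∈ b.toFinset, (ψ : H → ℂ) s * conj ((ψ : H → ℂ) t)) /
        ((p ^ d : ℕ) : ℂ))) :
    blockRank p b ≤ 1 := by
  have hp : p.Prime := Fact.out
  haveI : Fintype (ConjClasses H) := Fintype.ofFinite _
  obtain ⟨ψ₀, hψ₀⟩ := IsPBlock.nonempty hb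
  have hp0 : ((p ^ d : ℕ) : ℂ) ≠ 0 := Nat.cast_ne_zero.2 (pow_ne_zero _ hp.ne_zero)
  let K : H → H → ℂ := fun s t =>
    (∑ ψ ∈ b.toFinset, (ψ : H → ℂ) s * conj ((ψ : H → ℂ) t)) / ((p ^ d : ℕ) : ℂ)
  let term : IrrCharacter H → H → ConjClasses H → locRing M := fun ψ s C =>
    if hs : IsPRegular p s ∧ IsPRegular p C.out then
      ⟨centralChar (ψ : H → ℂ) C.out * K s C.out,
        CfsgLib.BlockReg.memRing_mul hM (CfsgLib.BlockReg.memRing_centralChar hM ψ _)
          (hK s C.out hs.1 hs.2)⟩
    else 0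
  refine blockRank_le_one_of_proportional hM hb
    (fun s => red M (∑ C, term ψ₀ s.1 C)) fun ψ hψ => ?_
  have hle : (Nat.card H).factorization p ≤
      (charDegree (ψ : H → ℂ) * p ^ d).factorization p := by
    rw [Nat.factorization_mul (CfsgLib.BlockReg.deg_pos ψ).ne' (pow_ne_zero _ hp.ne_zero),
      Finsupp.add_apply, hp.factorization_pow, Finsupp.single_eq_same, ← hd,
      CfsgLib.BlockReg.blockDefect_eq]
    have := CfsgLib.BlockReg.minExp_le (p := p) hψ
    omega
  let cψ : locRing M := ⟨((charDegree (ψ : H → ℂ) * p ^ d : ℕ) : ℂ) / (Nat.card H : ℂ),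
    CfsgLib.BlockReg.natCast_div_memRing hM Nat.card_pos.ne' (Or.inr hle)⟩
  refine ⟨red M cψ, fun s => ?_⟩
  have hval : CfsgLib.DegreeSq.valR M ψ s.1 = cψ * ∑ C, term ψ s.1 C := by
    apply Subtype.ext
    rw [MulMemClass.coe_mul, AddSubmonoidClass.coe_finsetSum]
    show (ψ : H → ℂ) s.1 = _
    -- expand along the block
    have h1 : (ψ : H → ℂ) s.1 = ∑ θ : b, classInner (pRegularPart p (ψ : H → ℂ))
        ((θ : IrrCharacter H) : H → ℂ) * ((θ : IrrCharacter H) : H → ℂ) s.1 := by
      have h := congrFun (CfsgLib.BlockRank.pRegularPart_eq_sum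
        (CfsgLib.BlockRank.regClosed_of_isPBlock hM hb) hψ) s.1
      simpa [CfsgLib.BlockRank.pRegularPart_apply, s.2, Finset.sum_apply] using h
    let F : H → ℂ := fun g => if IsPRegular p g then (ψ : H → ℂ) g * K s.1 g else 0
    have h2 : (ψ : H → ℂ) s.1 =
        ((p ^ d : ℕ) : ℂ) / (Nat.card H : ℂ) * ∑ g, F g := by
      conv_lhs => rw [h1]
      rw [← Finset.sum_subtype b.toFinset (fun _ => Set.mem_toFinset)
        (fun θ : IrrCharacter H => classInner (pRegularPart p (ψ : H → ℂ)) (θ : H → ℂ) *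
          (θ : H → ℂ) s.1), Finset.mul_sum]
      simp only [classInner, Finset.mul_sum, Finset.sum_mul]
      rw [Finset.sum_comm]
      refine Finset.sum_congr rfl fun g _ => ?_
      by_cases hg : IsPRegular p g
      · simp only [F, K, if_pos hg, CfsgLib.BlockRank.pRegularPart_apply]
        rw [Finset.sum_div, Finset.mul_sum, Finset.mul_sum]
        refine Finset.sum_congr rfl fun θ _ => ?_
        field_simp
      · simp [F, hg, CfsgLib.BlockRank.pRegularPart_apply]
    have hF : ∀ g h, IsConj g h → F g = F h := by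
      intro g h hgh
      have hr := CfsgLib.BlockRank.isPRegular_of_isConj (p := p) hgh
      by_cases hg : IsPRegular p g
      · simp only [F, K, if_pos hg, if_pos (hr.1 hg)]
        rw [CfsgLib.BlockReg.char_conj_invariant ψ g h hgh]
        congr 2
        exact Finset.sum_congr rfl fun θ _ => by
          rw [CfsgLib.BlockReg.char_conj_invariant θ g h hgh]
      · simp only [F, if_neg hg, if_neg fun h' => hg (hr.2 h')]
    rw [h2, CfsgLib.BlockReg.sum_eq_sum_classes F hF, Finset.mul_sum, Finset.mul_sum]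
    refine Finset.sum_congr rfl fun C _ => ?_
    by_cases hC : IsPRegular p C.out
    · simp only [F, term, if_pos hC, dif_pos (And.intro s.2 hC), cψ,
        CfsgLib.BlockReg.centralChar_eq, Nat.cast_mul, CfsgLib.BlockReg.deg_cast]
      have := CfsgLib.BlockReg.deg_ne_zero ψ
      field_simp
    · simp [F, term, hC]
  show red M (CfsgLib.DegreeSq.valR M ψ s.1) = _
  rw [hval, map_mul]
  congr 1
  rw [map_sum, map_sum]
  refine Finset.sum_congr rfl fun C _ => ?_
  simp only [term]
  split_ifs with h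
  · refine memLocalIdeal_sub_iff.1 ?_
    rw [← sub_mul]
    exact CfsgLib.BlockReg.memIdeal_mul_right hM (CfsgLib.BlockReg.block_congr hM hb hψ hψ₀ _)
      (hK s.1 C.out h.1 h.2)
  · rfl

omit [Fact p.Prime] [M.IsMaximal] in
/-- Projection to a block is convolution with its idempotent. -/
theorem blockPart_eq_conv {H : Type u} [Group H] [Fintype H] (e : Set (IrrCharacter H))
    {θ : H → ℂ} (hθ : IsClassFunction H θ) (s : H) :
    blockPart e θ s = ∑ z : H, blockCoeff e z * θ (z * s) := by
  haveI := Fintype.ofFinite e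
  have hmul : ∀ φ : IrrCharacter H, ∑ z, blockCoeff e z * (φ : H → ℂ) (z * s) =
      if φ ∈ e then (φ : H → ℂ) s else 0 := by
    intro φ
    split_ifs with hφ
    · exact sum_blockCoeff_mul_apply e hφ s
    · obtain ⟨n, ρ, hρi, hρ⟩ := φ.2
      haveI := hρi
      have hcf : IsClassFunction H (blockCoeff e) := fun u v => blockCoeff_conj e v u
      have hop := CfsgLib.Char.opOfFun_irreducible ρ hcf
      have h := omega_idemC e φ
      rw [omega_eq_sum, coe_idemC, blockInd, if_neg hφ] at h
      simp only [coeff_ofFun, ← hρ, Representation.char_one] at h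
      rw [h, zero_smul] at hop
      have h2 := congrArg (fun T : Module.End ℂ (Fin n → ℂ) =>
        LinearMap.trace ℂ (Fin n → ℂ) (T * ρ s)) hop
      simp only [CfsgLib.Char.opOfFun, Finset.sum_mul, map_sum, smul_mul_assoc, map_smul,
        smul_eq_mul, ← map_mul, zero_mul, map_zero] at h2
      rw [← hρ]
      exact h2
  rw [CfsgLib.BlockRank.blockPart_apply]
  conv_rhs => rw [IsClassFunction.eq_sum_classInner hθ]
  simp only [Finset.sum_apply, Pi.smul_apply, smul_eq_mul, Finset.mul_sum]
  rw [Finset.sum_comm, ← Finset.sum_subset (Finset.subset_univ e.toFinset) fun φ _ hφ => by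
    rw [Finset.sum_congr rfl fun z _ => mul_left_comm _ _ _, ← Finset.mul_sum, hmul φ,
      if_neg fun h => hφ (Set.mem_toFinset.2 h), mul_zero]]
  refine Finset.sum_congr rfl fun φ hφ => ?_
  rw [Finset.sum_congr rfl fun z _ => mul_left_comm _ _ _, ← Finset.mul_sum, hmul φ,
    if_pos (Set.mem_toFinset.1 hφ)]

omit [M.IsMaximal] in
/-- The pairings of a subsection are combinations of the pairings of the block. -/
theorem subsection_pairing {G : Type u} [Group G] [Fintype G] (hM : IsPModular p M)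
    {B : Set (IrrCharacter G)} {C : Subgroup G} {x : G} (hC : C = Subgroup.centralizer {x})
    (hx : ∃ k : ℕ, orderOf x = p ^ k) [Fintype C] {b : Set (IrrCharacter C)}
    (hind : IsInducedBlock M C b B) {d : ℕ}
    (hB : ∀ g h : G, MemLocalRing M
      ((∑ χ ∈ B.toFinset, (χ : G → ℂ) g * conj ((χ : G → ℂ) h)) / ((p ^ d : ℕ) : ℂ)))
    (s t : C) (hs : IsPRegular p s) (ht : IsPRegular p t) :
    MemLocalRing M ((∑ ψ ∈ b.toFinset, (ψ : C → ℂ) s * conj ((ψ : C → ℂ) t)) /
      ((p ^ d : ℕ) : ℂ)) := by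
  let F : IrrCharacter G → C → ℂ := fun χ c => (χ : G → ℂ) (x * c)
  have hcl : ∀ χ, IsClassFunction C (F χ) := fun χ =>
    CfsgLib.BlockRank.isClassFunction_translate hC χ
  have h1 : ∑ ψ ∈ b.toFinset, (ψ : C → ℂ) s * conj ((ψ : C → ℂ) t) =
      ∑ χ ∈ B.toFinset, blockPart b (F χ) s * conj (blockPart b (F χ) t) := by
    rw [Finset.sum_subset (Finset.subset_univ B.toFinset) fun χ _ hχ => by
      rw [CfsgLib.BlockRank.blockPart_translate_eq_zero hM hC hx hind
        (fun h => hχ (Set.mem_toFinset.2 h)) hs, zero_mul],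
      CfsgLib.BlockRank.sum_blockPart_mul_conj_congr hM hind.1 F
        (fun φ : IrrCharacter C => (φ : C → ℂ))
        (fun c e hc he => CfsgLib.BlockRank.sum_translate_mul_conj hC hx c e hc he) hs ht,
      ← Finset.sum_subset (Finset.subset_univ b.toFinset) fun φ _ hφ => by
        rw [CfsgLib.BlockRank.blockPart_irr, if_neg fun h => hφ (Set.mem_toFinset.2 h), zero_mul]]
    refine Finset.sum_congr rfl fun φ hφ => ?_
    rw [CfsgLib.BlockRank.blockPart_irr, CfsgLib.BlockRank.blockPart_irr,
      if_pos (Set.mem_toFinset.1 hφ), if_pos (Set.mem_toFinset.1 hφ)]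
  have hcc : ∀ z : C, conj (blockCoeff b z) = blockCoeff b z⁻¹ := fun z => by
    simp only [blockCoeff, finsum_mem_eq_toFinset_sum, map_mul, map_inv₀, map_natCast, map_sum,
      Complex.conj_conj]
    congr 1
    refine Finset.sum_congr rfl fun φ _ => ?_
    rw [← IsIrrCharacter.apply_inv φ.2, inv_one, IsIrrCharacter.apply_inv φ.2 z, Complex.conj_conj]
  have h2 : (∑ ψ ∈ b.toFinset, (ψ : C → ℂ) s * conj ((ψ : C → ℂ) t)) / ((p ^ d : ℕ) : ℂ) =
      ∑ z : C, ∑ w : C, blockCoeff b z * blockCoeff b w⁻¹ *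
        ((∑ χ ∈ B.toFinset, (χ : G → ℂ) (x * ((z * s : C) : G)) *
          conj ((χ : G → ℂ) (x * ((w * t : C) : G)))) / ((p ^ d : ℕ) : ℂ)) := by
    rw [h1]
    simp only [blockPart_eq_conv b (hcl _), map_sum, map_mul, hcc, F, Finset.sum_mul,
      Finset.mul_sum, Finset.sum_div]
    rw [Finset.sum_comm]
    conv_rhs => rw [Finset.sum_comm]
    refine Finset.sum_congr rfl fun w _ => ?_
    rw [Finset.sum_comm]
    exact Finset.sum_congr rfl fun z _ => Finset.sum_congr rfl fun χ _ => by ring
  rw [h2]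
  exact CfsgLib.BlockReg.memRing_sum hM _ fun z _ => CfsgLib.BlockReg.memRing_sum hM _ fun w _ =>
    CfsgLib.BlockReg.memRing_mul hM (CfsgLib.BlockReg.memRing_mul hM
      (CfsgLib.BlockReg.memRing_blockCoeff hM hind.1 z)
      (CfsgLib.BlockReg.memRing_blockCoeff hM hind.1 w⁻¹)) (hB _ _)

/-- **Abelian defect group: all degrees are equal exactly when the block is nilpotent.** -/
theorem equal_degrees_iff_nilpotent {G : Type u} [Group G] [Finite G] (hM : IsPModular p M)
    {B : Set (IrrCharacter G)} (hB : IsPBlock M B) {P : Subgroup G}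
    (hP : IsDefectGroup p M B P) (hab : ∀ x ∈ P, ∀ y ∈ P, x * y = y * x)
    (h0 : ∀ χ ∈ B, (charDegree (χ : G → ℂ)).factorization p = CfsgLib.BlockReg.minExp p B) :
    (∃ d : ℕ, ∀ χ ∈ B, charDegree (χ : G → ℂ) = d) ↔ IsNilpotentBlock p M B := by
  haveI := Fintype.ofFinite G
  haveI : CharP (ResField M) p := charP_resField hM.1 (natCast_mem_of_isPModular hM)
  have hmaxR := (isDefectGroup_iff_maxR hM hB).1 hP
  obtain ⟨e, he⟩ := exists_pairOf (isBlockIdem_ebar hB) hmaxR.pgroup hmaxR.ne_zero
  have hno := hmaxR.noExt he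
  rw [CfsgLib.Blk83.isNilpotentBlock_iff hM hB]
  constructor
  · rintro ⟨f, hdeg⟩
    obtain ⟨-, hk, -⟩ := exists_pim hM hB hdeg
    have hcardP : Nat.card P = p ^ blockDefect p B := card_defectGroup hM hB hP
    obtain ⟨T, φ, hS⟩ := CfsgLib.BlockRank.Watanabe.exists_sectionsData hM hB he hno hab
    have hpair := sum_mul_conj_dvd hM hB hdeg
    have hone : ∀ s ∈ T, blockRank p s.2 ≤ 1 := fun s hs => by
      haveI : Fintype (Subgroup.centralizer ({s.1} : Set G)) := Fintype.ofFinite _
      exact blockRank_le_one_of_pairing hM (hS.induced s hs).1 (hS.major s hs)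
        (subsection_pairing hM rfl (hS.pelem s hs) (hS.induced s hs) hpair)
    have hcard : Nat.card P ≤ T.card := by
      rw [hcardP, ← hk, hS.card]
      exact (Finset.sum_le_sum hone).trans_eq (by simp)
    let g : T → P := fun s => ⟨φ s.1, hS.mem s.1 s.2⟩
    have hinj : Function.Injective g := by
      intro s₁ s₂ h12
      refine Subtype.ext (hS.inj s₁.1 s₁.2 s₂.1 s₂.2 1 (Subgroup.one_mem _) ?_)
      rw [one_mul, inv_one, mul_one]
      exact congrArg Subtype.val h12
    have hsurj : Function.Surjective g := by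
      haveI : Fintype P := Fintype.ofFinite P
      refine ((Fintype.bijective_iff_injective_and_card g).2 ⟨hinj, le_antisymm
        (Fintype.card_le_of_injective g hinj) ?_⟩).2
      rwa [Fintype.card_coe, ← Nat.card_eq_fintype_card]
    have htriv : ∀ y ∈ pairStab P e, y ∈ Subgroup.centralizer (P : Set G) := by
      intro y hy
      refine Subgroup.mem_centralizer_iff.2 fun u hu => ?_
      obtain ⟨⟨s, hs⟩, hsu⟩ := hsurj ⟨u, hu⟩
      have hsu' : φ s = u := congrArg Subtype.val hsu
      have hyu : y * u * y⁻¹ ∈ P :=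
        (Subgroup.mem_normalizer_iff.1 hy.1 u).1 hu
      obtain ⟨⟨s', hs'⟩, hsu₂⟩ := hsurj ⟨_, hyu⟩
      have hsu₂' : φ s' = y * u * y⁻¹ := congrArg Subtype.val hsu₂
      have := hS.inj s hs s' hs' y hy (by rw [hsu', hsu₂'])
      subst this
      rw [hsu'] at hsu₂'
      exact (mul_inv_eq_iff_eq_mul.1 hsu₂'.symm).symm
    refine CfsgLib.Blk83.nilPairs_of_below he hno fun Q f hle x hx _ => ?_
    obtain ⟨y, hy, -, c, hc, rfl⟩ := CfsgLib.Blk83.exists_mul_of_comm he hno hab hle
      (exists_maxIn_of_isBlockIdem hM (hle.pair_left he.pair).block) hx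
    exact Subgroup.mul_mem _ (centralizer_anti hle.le (htriv y hy)) hc
  · intro hnil
    obtain ⟨χ₀, hχ₀⟩ := IsPBlock.nonempty hB
    obtain ⟨Φ, -, hΦ⟩ := exists_equiv_of_innerFusion hM hB he hno
      (innerFusion_of_nilPairs hM hB he hno hnil) hχ₀ (h0 χ₀ hχ₀)
    refine ⟨charDegree (χ₀ : G → ℂ), fun χ hχ => ?_⟩
    have h1 := hΦ (Φ.symm ⟨χ, hχ⟩) 1 (by simp [IsPRegular, (Fact.out : p.Prime).ne_one])
    rw [Equiv.apply_symm_apply,
      CfsgLib.PrimTwo.apply_one_of_comm (fun a b => Subtype.ext (hab _ a.2 _ b.2))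
        (Φ.symm ⟨χ, hχ⟩).2, one_mul, ← CfsgLib.BlockReg.deg_cast,
      ← CfsgLib.BlockReg.deg_cast] at h1
    exact_mod_cast h1

end CfsgLib.BlockStar.EqualDeg
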