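import Cfsg.Agent.Lib.BlockStar.EqualDeg.Degree

/-!
# The values of a block with equal degrees pair into multiples of the defect order

With a projective idempotent meeting every character once, every character value is the value at
an element of a corner on which the characters of the block are multiplicative.
-/

set_option autoImplicit false
set_option maxHeartbeats 1000000
set_option synthInstance.maxHeartbeats 400000

namespace CfsgLib.BlockStar.EqualDeg

open Cfsg CfsgLib.Blocks CfsgLib.Char CfsgLib.DegreeSq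
open scoped ComplexConjugate Classical

universe u

variable {p : ℕ} [Fact p.Prime] {M : Ideal AlgInt} [M.IsMaximal] {G : Type u} [Group G] [Fintype G]
  {B : Set (IrrCharacter G)}

noncomputable local instance : Field (ResField M) := Ideal.Quotient.field M

omit [Fintype G] in
/-- An idempotent operator of trace one. -/
theorem conj_eq_trace_smul {V : Type*} [AddCommGroup V] [Module ℂ V] [FiniteDimensional ℂ V]
    {π : Module.End ℂ V} (hπ : IsIdempotentElem π) (htr : LinearMap.trace ℂ V π = 1)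
    (X : Module.End ℂ V) :
    π * X * π = LinearMap.trace ℂ V (π * X * π) • π := by
  have h1 : Module.finrank ℂ (LinearMap.range π) = 1 := by
    have h := (LinearMap.IsIdempotentElem.isProj_range _ hπ).trace
    rw [htr] at h
    exact_mod_cast h.symm
  obtain ⟨v, hv0, hv⟩ := finrank_eq_one_iff'.1 h1
  obtain ⟨c, hc⟩ := hv ⟨π (X v.1), LinearMap.mem_range_self π _⟩
  have h2 : π * X * π = c • π := by
    refine LinearMap.ext fun w => ?_
    obtain ⟨d, hd⟩ := hv ⟨π w, LinearMap.mem_range_self π w⟩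
    have hd' : π w = d • v.1 := (congrArg Subtype.val hd).symm
    have hc' : π (X v.1) = c • v.1 := (congrArg Subtype.val hc).symm
    show π (X (π w)) = c • π w
    rw [hd', map_smul, map_smul, hc', smul_comm]
  have h3 : LinearMap.trace ℂ V (π * X * π) = c := by
    rw [h2, map_smul, htr, smul_eq_mul, mul_one]
  rw [h3]
  exact h2

omit [Fact p.Prime] in
/-- A character is multiplicative on a corner it meets once. -/
theorem chR_corner_mul {χ : IrrCharacter G} {E : MonoidAlgebra (locRing M) G}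
    (hE : IsIdempotentElem E) (h : chR (χ : G → ℂ) E = 1) (a b : MonoidAlgebra (locRing M) G) :
    chR (χ : G → ℂ) (E * a * E * (E * b * E)) =
      chR (χ : G → ℂ) (E * a * E) * chR (χ : G → ℂ) (E * b * E) := by
  obtain ⟨n, ρ, hirr, hρ⟩ := χ.2
  have hπ : IsIdempotentElem (actR ρ E) := hE.map (actR ρ)
  rw [← hρ, chR_character] at h
  simp only [← hρ, chR_character, map_mul]
  rw [conj_eq_trace_smul hπ h (actR ρ a), conj_eq_trace_smul hπ h (actR ρ b), smul_mul_smul_comm,
    hπ.eq, map_smul, map_smul, map_smul, h]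
  simp

omit [Fact p.Prime] in
theorem chR_sum {ι : Type*} (f : G → ℂ) (s : Finset ι) (F : ι → MonoidAlgebra (locRing M) G) :
    chR f (∑ i ∈ s, F i) = ∑ i ∈ s, chR f (F i) := by
  induction s using Finset.induction_on with
  | empty => simp [chR_zero]
  | @insert a t ha ih => rw [Finset.sum_insert ha, Finset.sum_insert ha, chR_add, ih]

omit [Fact p.Prime] in
/-- The regular character at an element of the group ring. -/
theorem sum_deg_mul_chR (s : MonoidAlgebra (locRing M) G) :
    ∑ χ : IrrCharacter G, (χ : G → ℂ) 1 * chR (χ : G → ℂ) s =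
      (Nat.card G : ℂ) * (s.coeff 1 : ℂ) := by
  simp only [chR, Finset.mul_sum]
  rw [Finset.sum_comm, Finset.sum_eq_single 1]
  · have h1 := CfsgLib.Char.sum_mul_conj (G := G) 1 1
    rw [if_pos (IsConj.refl 1)] at h1
    have h2 : (Nat.card (Subgroup.centralizer ({1} : Set G)) : ℂ) = (Nat.card G : ℂ) := by
      rw [show Subgroup.centralizer ({1} : Set G) = ⊤ by
        ext x; simp [Subgroup.mem_centralizer_singleton_iff], Subgroup.card_top]
    rw [h2] at h1
    rw [← h1, Finset.sum_mul]
    refine Finset.sum_congr rfl fun χ _ => ?_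
    rw [← IsIrrCharacter.apply_inv χ.2, inv_one]
    ring
  · intro g _ hg
    have h1 := CfsgLib.Char.sum_mul_conj (G := G) g 1
    rw [if_neg (fun hc => hg (isConj_one_left.1 hc))] at h1
    rw [← mul_zero (s.coeff g : ℂ), ← h1, Finset.mul_sum]
    refine Finset.sum_congr rfl fun χ _ => ?_
    rw [← IsIrrCharacter.apply_inv χ.2, inv_one]
    ring
  · simp

omit [Fact p.Prime] in
theorem exists_sum_mul_mul_eq_one {N : ℕ} {k : Type*} [Field k]
    {P : Matrix (Fin N) (Fin N) k} (hP : P ≠ 0) :
    ∃ L R : Fin N → Matrix (Fin N) (Fin N) k, ∑ m, L m * P * R m = 1 := by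
  obtain ⟨i, j, hij⟩ : ∃ i j, P i j ≠ 0 := by
    by_contra h
    push Not at h
    exact hP (Matrix.ext h)
  refine ⟨fun m => Matrix.single m i (P i j)⁻¹, fun m => Matrix.single j m 1, ?_⟩
  simp only [Matrix.single_mul_mul_single, inv_mul_cancel₀ hij, mul_one]
  rw [Matrix.sum_single_eq_diagonal]
  exact Matrix.diagonal_one

/-- The block idempotent lies in the two-sided ideal of the projective idempotent. -/
theorem exists_sum_corner (hM : IsPModular p M) (hB : IsPBlock M B) (hl : blockRank p B = 1)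
    {η : MonoidAlgebra (ResField M) G} (hη : IsIdempotentElem η)
    (hεη : (blockIdem hB : MonoidAlgebra (ResField M) G) * η = η) (hη0 : η ≠ 0)
    {E : MonoidAlgebra (locRing M) G} (hEr : redA M G E = η) :
    ∃ (N : ℕ) (a b : Fin N → MonoidAlgebra (locRing M) G),
      ∑ m, a m * E * b m = (blockIdemR hB : MonoidAlgebra (locRing M) G) := by
  haveI : CharP (ResField M) p := charP_resField hM.1 (natCast_mem_of_isPModular hM)
  haveI := CfsgLib.DegreeSq.isAlgClosed_resField (M := M)
  haveI : FiniteDimensional (ResField M) (MonoidAlgebra (ResField M) G) :=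
    Module.Finite.of_basis (MonoidAlgebra.basis G (ResField M))
  obtain ⟨τ, hset⟩ := CfsgLib.Brandt.setup_blockIdem hB
  obtain ⟨N, ρ, K, -, hsurj, hρε, hKnil, hK⟩ :=
    hset.exists_simple (CfsgLib.Brandt.oneSimple_of_blockRank_one hM hB hl)
  set ε := (blockIdem hB : MonoidAlgebra (ResField M) G) with hεdef
  have hnil : ∀ z, ε * z = z → ρ z = 0 → IsNilpotent z := fun z hz h0 => by
    obtain ⟨t, ht⟩ := hKnil
    exact ⟨t, by simpa [ht] using Ideal.pow_mem_pow (hK z hz h0) t⟩
  have hρη : ρ η ≠ 0 := fun h0 =>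
    hη0 (IsIdempotentElem.eq_zero_of_isNilpotent hη (hnil η hεη h0))
  obtain ⟨L, R, hLR⟩ := exists_sum_mul_mul_eq_one hρη
  choose a' ha' using fun m => hsurj (L m)
  choose b' hb' using fun m => hsurj (R m)
  choose A hA using fun m => redA_surjective (a' m)
  choose Bm hBm using fun m => redA_surjective (b' m)
  set εR := (blockIdemR hB : MonoidAlgebra (locRing M) G) with hεR
  have hεred : redA M G εR = ε := rfl
  have hc : ∀ x, x * εR = εR * x := Subalgebra.mem_center_iff.1 (blockIdemR hB).2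
  have hi : εR * εR = εR := congrArg Subtype.val (isIdempotentElem_blockIdemR hB).eq
  let U : MonoidAlgebra (locRing M) G := εR * (∑ m, A m * E * Bm m) + (1 - εR)
  set w := ε * (∑ m, a' m * η * b' m) - ε with hw
  have hUred : redA M G U = 1 + w := by
    simp only [U, hw, map_add, map_mul, map_sum, map_sub, map_one, hA, hBm, hEr, hεred]
    abel
  have hwnil : IsNilpotent w := by
    refine hnil w ?_ ?_
    · have hii : ε * ε = ε := idem_blockIdem.eq
      rw [hw, mul_sub, ← mul_assoc, hii]
    · simp only [hw, map_sub, map_mul, map_sum, hρε, ha', hb', hLR, mul_one, sub_self]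
  obtain ⟨V, hV⟩ := exists_unit_lift hwnil.isUnit_one_add.unit
  rw [IsUnit.unit_spec] at hV
  have hVU : redA M G ((V⁻¹).val * U) = 1 := by
    rw [map_mul, hUred, ← hV, ← map_mul, Units.inv_mul, map_one]
  obtain ⟨W, hW⟩ := isUnit_of_redA_eq_one hVU
  have hU : ((W⁻¹).val * (V⁻¹).val) * U = 1 := by
    rw [mul_assoc, ← hW, Units.inv_mul]
  refine ⟨N, fun m => ((W⁻¹).val * (V⁻¹).val) * (εR * A m), Bm, ?_⟩
  have h1 : U * εR = εR * ∑ m, A m * E * Bm m := by
    simp only [U, add_mul, sub_mul, one_mul, hi, sub_self, add_zero]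
    rw [mul_assoc, hc, ← mul_assoc, hi]
  calc ∑ m, ((W⁻¹).val * (V⁻¹).val) * (εR * A m) * E * Bm m
      = ((W⁻¹).val * (V⁻¹).val) * (εR * ∑ m, A m * E * Bm m) := by
        rw [Finset.mul_sum, Finset.mul_sum]
        exact Finset.sum_congr rfl fun m _ => by simp only [mul_assoc]
    _ = εR := by rw [← h1, ← mul_assoc, hU, one_mul]

/-- **The values of a block with equal degrees**: for all `x`, `y` the sum of `χ x` times the
conjugate of `χ y` is a multiple of the order of a defect group. -/
theorem sum_mul_conj_dvd (hM : IsPModular p M) (hB : IsPBlock M B) {f : ℕ}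
    (hdeg : ∀ χ ∈ B, charDegree (χ : G → ℂ) = f) (x y : G) :
    MemLocalRing M ((∑ χ ∈ B.toFinset, (χ : G → ℂ) x * conj ((χ : G → ℂ) y)) /
      ((p ^ blockDefect p B : ℕ) : ℂ)) := by
  have hp : p.Prime := Fact.out
  obtain ⟨hl, -, η, hη, hεη, hmult⟩ := exists_pim hM hB hdeg
  obtain ⟨χ₀, hχ₀⟩ := IsPBlock.nonempty hB
  have hη0 : η ≠ 0 := by
    rintro rfl
    have h1 := hmult χ₀ hχ₀
    rw [(isIdemFun_mult χ₀).map_zero'] at h1
    exact zero_ne_one h1
  obtain ⟨E, hE, hEr⟩ := exists_idem_lift hη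
  have hχE : ∀ χ ∈ B, chR (χ : G → ℂ) E = 1 := fun χ hχ => by
    rw [← mult_spec χ hE hEr, hmult χ hχ, Int.cast_one]
  obtain ⟨N, a, b, hab⟩ := exists_sum_corner hM hB hl hη hεη hη0 hEr
  set εR := (blockIdemR hB : MonoidAlgebra (locRing M) G) with hεR
  -- the element of the corner
  let T : G → MonoidAlgebra (locRing M) G :=
    fun g => ∑ m, b m * MonoidAlgebra.single g 1 * a m
  have hT : ∀ χ ∈ B, ∀ g : G,
      chR (χ : G → ℂ) (E * T g * E) = (χ : G → ℂ) g := by
    intro χ hχ g
    have hcl := IsIrrCharacter.isClassFunction χ.2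
    have h1 : chR (χ : G → ℂ) (MonoidAlgebra.single g 1 * εR) = (χ : G → ℂ) g := by
      rw [chR_mul_blockIdemR hB, blockInd, if_pos hχ, one_mul, chR_single, OneMemClass.coe_one,
        one_mul]
    rw [← h1, ← hab, chR_comm hcl (E * T g) E, ← mul_assoc, hE.eq, chR_comm hcl E (T g),
      Finset.sum_mul, chR_sum, Finset.mul_sum, chR_sum]
    refine Finset.sum_congr rfl fun m _ => ?_
    rw [show b m * MonoidAlgebra.single g 1 * a m * E =
        b m * (MonoidAlgebra.single g 1 * a m * E) by simp only [mul_assoc],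
      chR_comm hcl (b m)]
    simp only [mul_assoc]
  set z := E * T x * E * (E * T y⁻¹ * E) with hz
  have hf0 : (f : ℂ) ≠ 0 :=
    Nat.cast_ne_zero.2 (hdeg χ₀ hχ₀ ▸ (CfsgLib.BlockReg.deg_pos χ₀).ne')
  have hsum : (f : ℂ) * ∑ χ ∈ B.toFinset, (χ : G → ℂ) x * conj ((χ : G → ℂ) y) =
      (Nat.card G : ℂ) * ((z * εR).coeff 1 : ℂ) := by
    rw [← sum_deg_mul_chR, Finset.mul_sum,
      ← Finset.sum_subset (Finset.subset_univ B.toFinset) fun χ _ hχ => by
        rw [chR_mul_blockIdemR hB, blockInd, if_neg fun h => hχ (Set.mem_toFinset.2 h)]; simp]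
    refine Finset.sum_congr rfl fun χ hχ => ?_
    rw [Set.mem_toFinset] at hχ
    rw [chR_mul_blockIdemR hB, blockInd, if_pos hχ, one_mul, hz,
      chR_corner_mul hE (hχE χ hχ), hT χ hχ, hT χ hχ, ← CfsgLib.BlockReg.deg_cast, hdeg χ hχ,
      IsIrrCharacter.apply_inv χ.2]
  have hd : (f * p ^ blockDefect p B).factorization p ≤ (Nat.card G).factorization p := by
    rw [Nat.factorization_mul (hdeg χ₀ hχ₀ ▸ (CfsgLib.BlockReg.deg_pos χ₀).ne')
      (pow_ne_zero _ hp.ne_zero), Finsupp.add_apply, hp.factorization_pow,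
      Finsupp.single_eq_same, factorization_eq_minExp hB hdeg,
      CfsgLib.BlockReg.blockDefect_eq]
    have : CfsgLib.BlockReg.minExp p B ≤ (Nat.card G).factorization p := by
      obtain ⟨χ, hχ, hm⟩ := CfsgLib.BlockReg.exists_minExp (p := p) (IsPBlock.nonempty hB)
      rw [← hm]
      exact CfsgLib.BlockReg.factorization_deg_le χ
    omega
  have hne : f * p ^ blockDefect p B ≠ 0 :=
    Nat.mul_ne_zero (hdeg χ₀ hχ₀ ▸ (CfsgLib.BlockReg.deg_pos χ₀).ne') (pow_ne_zero _ hp.ne_zero)
  have e : (∑ χ ∈ B.toFinset, (χ : G → ℂ) x * conj ((χ : G → ℂ) y)) /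
      ((p ^ blockDefect p B : ℕ) : ℂ) =
      ((Nat.card G : ℂ) / ((f * p ^ blockDefect p B : ℕ) : ℂ)) * ((z * εR).coeff 1 : ℂ) := by
    rw [Nat.cast_mul, div_mul_eq_mul_div, ← hsum, mul_div_mul_left _ _ hf0]
  rw [e]
  exact CfsgLib.BlockReg.memRing_mul hM
    (CfsgLib.BlockReg.natCast_div_memRing hM hne (Or.inr hd)) ((z * εR).coeff 1).2

end CfsgLib.BlockStar.EqualDeg
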