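import Cfsg.Agent.Lib.Blocks.DegreeSq.Main
import Cfsg.Agent.Lib.Blocks.Brandt.OneSimple

/-!
# Projective idempotents of a block and its rank

The number of projective idempotents of a block equals the rank, and the regular values of the
characters of the block are combinations of as many functions, weighted by the multiplicities.
-/

set_option autoImplicit false
set_option maxHeartbeats 1000000
set_option synthInstance.maxHeartbeats 400000

namespace CfsgLib.BlockStar.EqualDeg

open Cfsg CfsgLib.Blocks CfsgLib.Char CfsgLib.DegreeSq Module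
open scoped ComplexConjugate Classical

universe u

variable {p : ℕ} [Fact p.Prime] {M : Ideal AlgInt} [M.IsMaximal] {G : Type u} [Group G] [Fintype G]
  (D : IdemData (ResField M) (MonoidAlgebra (ResField M) G))

noncomputable local instance : Field (ResField M) := Ideal.Quotient.field M

/-- The projective idempotents in a block. -/
noncomputable def blockPIMs {B : Set (IrrCharacter G)} (hB : IsPBlock M B) : Finset (Fin D.n) :=
  Finset.univ.filter fun i => (blockIdem hB : MonoidAlgebra (ResField M) G) * D.eps i = D.eps i

variable {D} {B : Set (IrrCharacter G)} {hB : IsPBlock M B}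

omit [Fact p.Prime] in
theorem mult_pim_out {i : Fin D.n} (hi : i ∈ blockPIMs D hB) {χ : IrrCharacter G} (hχ : χ ∉ B) :
    mult χ (D.eps i) = 0 :=
  mult_eq_zero_of_not_mem hB (D.eps_idem i) (Finset.mem_filter.1 hi).2 hχ

omit [Fact p.Prime] in
theorem central_blockIdem (a : MonoidAlgebra (ResField M) G) :
    a * (blockIdem hB : MonoidAlgebra (ResField M) G) = blockIdem hB * a :=
  Subalgebra.mem_center_iff.1 (blockIdem hB).2 a

omit [Fact p.Prime] in
theorem idem_blockIdem : IsIdempotentElem (blockIdem hB : MonoidAlgebra (ResField M) G) :=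
  congrArg Subtype.val (isIdempotentElem_blockIdem hB).eq

omit [Fact p.Prime] in
theorem mult_pim_in {i : Fin D.n} (hi : i ∉ blockPIMs D hB) {χ : IrrCharacter G} (hχ : χ ∈ B) :
    mult χ (D.eps i) = 0 := by
  refine mult_eq_zero_of_mul_eq_zero hB (D.eps_idem i) ?_ hχ
  rcases D.central _ idem_blockIdem central_blockIdem i with h | h
  · exact absurd (Finset.mem_filter.2 ⟨Finset.mem_univ i, h.1⟩) hi
  · exact h.1

omit [Fact p.Prime] in
theorem tr_blockIdem {i : Fin D.n} (hi : i ∈ blockPIMs D hB) (a : MonoidAlgebra (ResField M) G) :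
    D.tr i ((blockIdem hB : MonoidAlgebra (ResField M) G) * a) = D.tr i a := by
  rcases D.central _ idem_blockIdem central_blockIdem i with h | h
  · exact h.2 a
  · exfalso
    have h1 := (Finset.mem_filter.1 hi).2
    rw [h.1] at h1
    have h2 := D.tr_eps i i
    rw [← h1, map_zero, if_pos rfl] at h2
    exact zero_ne_one h2

omit [Fact p.Prime] in
/-- The degree in terms of the projective idempotents of the block. -/
theorem charDegree_eq_sum {χ : IrrCharacter G} (hχ : χ ∈ B) :
    ((charDegree (χ : G → ℂ) : ℕ) : ℤ) =
      ∑ i ∈ blockPIMs D hB, (D.deg i : ℤ) * mult χ (D.eps i) := by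
  rw [Finset.sum_subset (Finset.subset_univ (blockPIMs D hB))
      (fun i _ hi => by rw [mult_pim_in hi hχ, mul_zero]),
    ← D.decomp_one (mult χ) (isIdemFun_mult χ)]
  have : ((charDegree (χ : G → ℂ) : ℕ) : ℂ) = ((mult (M := M) χ 1 : ℤ) : ℂ) := by
    rw [mult_one, CfsgLib.BlockReg.deg_cast]
  exact_mod_cast this

/-- Regular values are linear in the multiplicities. -/
theorem exists_brauer (hM : IsPModular p M) (x : G) (hx : IsPRegular p x) :
    ∃ w : Fin D.n → ℂ, ∀ χ ∈ B, (χ : G → ℂ) x =
      ∑ i ∈ blockPIMs D hB, (mult χ (D.eps i) : ℂ) * w i := by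
  let K := Subgroup.zpowers x
  haveI : Fintype K := Fintype.ofFinite K
  haveI : Group.IsNilpotent K := @CommGroup.isNilpotent K IsCyclic.commGroup
  have hK : ¬ p ∣ Nat.card K := by rw [Nat.card_zpowers]; exact hx
  choose z hz using fun φ : IrrCharacter K =>
    inProj_generalized D hM hK K.subtype (IsIrrCharacter.isGeneralizedCharacter φ.2)
  refine ⟨fun i => ∑ φ : IrrCharacter K, (z φ i : ℂ) *
    (φ : K → ℂ) ⟨x, Subgroup.mem_zpowers x⟩, fun χ hχ => ?_⟩
  have hcl : IsClassFunction K (fun k : K => (χ : G → ℂ) k) := fun a b => by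
    show (χ : G → ℂ) ((b : G) * a * (b : G)⁻¹) = _
    exact IsIrrCharacter.isClassFunction χ.2 _ _
  have hcoef : ∀ φ : IrrCharacter K, classInner (fun k : K => (χ : G → ℂ) k) (φ : K → ℂ) =
      ∑ i ∈ blockPIMs D hB, (z φ i : ℂ) * (mult χ (D.eps i) : ℂ) := by
    intro φ
    have h1 : classInner (φ : K → ℂ) (fun k : K => (χ : G → ℂ) k) = _ := hz φ χ
    rw [← classInner_conj_symm, h1, map_sum,
      Finset.sum_subset (Finset.subset_univ (blockPIMs D hB))
        (fun i _ hi => by rw [mult_pim_in hi hχ, Int.cast_zero, mul_zero])]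
    refine Finset.sum_congr rfl fun i _ => ?_
    simp
  have h2 := congrFun (IsClassFunction.eq_sum_classInner hcl) ⟨x, Subgroup.mem_zpowers x⟩
  simp only [Finset.sum_apply, Pi.smul_apply, smul_eq_mul, hcoef, Finset.sum_mul] at h2
  rw [h2, Finset.sum_comm]
  refine Finset.sum_congr rfl fun i _ => ?_
  rw [Finset.mul_sum]
  exact Finset.sum_congr rfl fun φ _ => by ring

/-- The regular parts of the characters of a block are combinations of as many functions as there
are projective idempotents. -/
theorem exists_brauer_basis (hM : IsPModular p M) :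
    ∃ Φ : Fin D.n → G → ℂ, ∀ χ ∈ B, pRegularPart p (χ : G → ℂ) =
      ∑ i ∈ blockPIMs D hB, (mult χ (D.eps i) : ℂ) • Φ i := by
  choose! w hw using exists_brauer (D := D) (hB := hB) hM
  refine ⟨fun i x => if IsPRegular p x then w x i else 0, fun χ hχ => ?_⟩
  funext x
  rw [CfsgLib.BlockRank.pRegularPart_apply, Finset.sum_apply]
  split_ifs with hx
  · rw [hw x hx χ hχ]
    exact Finset.sum_congr rfl fun i _ => by simp [hx]
  · simp [hx]

theorem blockRank_le_card_pims (hM : IsPModular p M) :
    blockRank p B ≤ (blockPIMs D hB).card := by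
  obtain ⟨Φ, hΦ⟩ := exists_brauer_basis (D := D) (hB := hB) hM
  refine le_trans (Submodule.finrank_mono (Submodule.span_le.2 ?_))
    ((finrank_span_finset_le_card (R := ℂ) ((blockPIMs D hB).image Φ)).trans Finset.card_image_le)
  rintro _ ⟨χ, hχ, rfl⟩
  show pRegularPart p (χ : G → ℂ) ∈ _
  rw [hΦ χ hχ]
  exact sum_mem fun i hi => Submodule.smul_mem _ _
    (Submodule.subset_span (Finset.mem_coe.2 (Finset.mem_image_of_mem Φ hi)))

variable (M) in
/-- The reductions of the regular values of the characters of a set. -/
def redRegSet (p : ℕ) (B : Set (IrrCharacter G)) : Set ({g : G // IsPRegular p g} → ResField M) :=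
  (fun χ : IrrCharacter G => fun g : {g : G // IsPRegular p g} => red M (valR M χ g.1)) '' B

/-- The traces of the projective idempotents of the block are independent on the regular
elements. -/
theorem card_pims_le_finrank (hM : IsPModular p M) :
    (blockPIMs D hB).card ≤
      finrank (ResField M) (Submodule.span (ResField M) (redRegSet M p B)) := by
  haveI : CharP (ResField M) p := charP_resField hM.1 (natCast_mem_of_isPModular hM)
  set k := ResField M
  set IB := blockPIMs D hB
  let f : IB → ({g : G // IsPRegular p g} → k) := fun i g => D.tr i.1 (MonoidAlgebra.single g.1 1)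
  have hTL : ∀ i : IB, CfsgLib.Brandt.TraceLike (blockIdem hB : MonoidAlgebra k G) (D.tr i.1) :=
    fun i => ⟨D.tr_comm i.1, tr_blockIdem i.2, D.tr_nil i.1⟩
  have hmem : ∀ i : IB, f i ∈ Submodule.span k (redRegSet M p B) := by
    intro i
    obtain ⟨a, ha⟩ := CfsgLib.Brandt.exists_lift hM hB (hTL i)
    have he : f i = ∑ χ ∈ (Set.toFinite B).toFinset,
        red M (a χ) • fun g : {g : G // IsPRegular p g} => red M (valR M χ g.1) := by
      funext g
      simp only [f, ha, Finset.sum_apply, Pi.smul_apply, smul_eq_mul, map_sum, map_mul]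
      rfl
    rw [he]
    exact sum_mem fun χ hχ => Submodule.smul_mem _ _
      (Submodule.subset_span ⟨χ, (Set.toFinite B).mem_toFinset.1 hχ, rfl⟩)
  have hli : LinearIndependent k f := by
    refine Fintype.linearIndependent_iff.2 fun c hc i => ?_
    have hzero : ∑ j : IB, c j • D.tr j.1 = 0 := by
      refine (MonoidAlgebra.basis G k).ext fun g => ?_
      obtain ⟨x, y, hxy, hcomm, ⟨j, hj⟩, hy⟩ := exists_isPPart (Fact.out : p.Prime) g
      have h' := congrFun hc ⟨y, hy⟩
      simp only [f, Finset.sum_apply, Pi.smul_apply, Pi.zero_apply] at h'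
      simp only [LinearMap.coe_sum, Finset.sum_apply, LinearMap.smul_apply, LinearMap.zero_apply]
      refine Eq.trans (Finset.sum_congr rfl fun l _ => ?_) h'
      congr 1
      have h := (hTL l).apply_single_mul hcomm (j := j) (by rw [← hj, pow_orderOf_eq_one])
      rw [hxy] at h
      simpa [MonoidAlgebra.basis] using h
    have h1 := LinearMap.congr_fun hzero (D.eps i.1)
    simp only [LinearMap.coe_sum, Finset.sum_apply, LinearMap.smul_apply, D.tr_eps,
      LinearMap.zero_apply, smul_eq_mul, mul_ite, mul_one, mul_zero] at h1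
    rw [Finset.sum_eq_single i (fun l _ hl => by rw [if_neg fun h => hl (Subtype.ext h)])
      (fun h => absurd (Finset.mem_univ i) h), if_pos rfl] at h1
    exact h1
  have hV : LinearIndependent k
      (fun i : IB => (⟨f i, hmem i⟩ : Submodule.span k (redRegSet M p B))) :=
    LinearIndependent.of_comp (Submodule.span k (redRegSet M p B)).subtype hli
  have h3 := hV.fintype_card_le_finrank
  simpa using h3

omit [Fact p.Prime] in
theorem finrank_redRegSet_le :
    finrank (ResField M) (Submodule.span (ResField M) (redRegSet M p B)) ≤ blockRank p B := by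
  let S : Set ({g : G // IsPRegular p g} → locRing M) :=
    (fun χ : IrrCharacter G => fun g => valR M χ g.1) '' B
  have hS : redRegSet M p B = (fun v g => red M (v g)) '' S := by
    rw [Set.image_image]; rfl
  rw [hS]
  refine (CfsgLib.Brandt.finrank_span_red_le S).trans ?_
  unfold blockRank
  rw [Set.image_image]
  refine le_trans (le_of_eq ?_) (Submodule.finrank_map_le
    (LinearMap.funLeft ℂ ℂ (fun g : {g : G // IsPRegular p g} => g.1)) _)
  rw [Submodule.map_span, Set.image_image]
  have heq : (fun χ : IrrCharacter G => fun g : {g : G // IsPRegular p g} => (χ : G → ℂ) g.1) =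
      fun χ : IrrCharacter G => (LinearMap.funLeft ℂ ℂ fun g : {g : G // IsPRegular p g} => g.1)
        (pRegularPart p (χ : G → ℂ)) := by
    funext χ g
    simp [LinearMap.funLeft_apply, CfsgLib.BlockRank.pRegularPart_apply, g.2]
  rw [← heq]
  rfl

/-- The number of projective idempotents of a block is its rank. -/
theorem card_pims_eq_blockRank (hM : IsPModular p M) :
    (blockPIMs D hB).card = blockRank p B :=
  le_antisymm ((card_pims_le_finrank hM).trans finrank_redRegSet_le) (blockRank_le_card_pims hM)

omit D in
/-- A block whose reduced regular values are proportional has rank at most one. -/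
theorem blockRank_le_one_of_proportional (hM : IsPModular p M) (hB : IsPBlock M B)
    (F : {g : G // IsPRegular p g} → ResField M)
    (h : ∀ χ ∈ B, ∃ c : ResField M, ∀ g : {g : G // IsPRegular p g},
      red M (valR M χ g.1) = c * F g) :
    blockRank p B ≤ 1 := by
  haveI := CfsgLib.DegreeSq.isAlgClosed_resField (M := M)
  haveI : FiniteDimensional (ResField M) (MonoidAlgebra (ResField M) G) :=
    Module.Finite.of_basis (MonoidAlgebra.basis G (ResField M))
  obtain ⟨D⟩ := exists_idemData (ResField M) (MonoidAlgebra (ResField M) G)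
  rw [← card_pims_eq_blockRank (D := D) (hB := hB) hM]
  refine (card_pims_le_finrank hM).trans ?_
  refine le_trans (Submodule.finrank_mono (Submodule.span_le.2 ?_))
    ((finrank_span_le_card ({F} : Set _)).trans (by simp))
  rintro _ ⟨χ, hχ, rfl⟩
  obtain ⟨c, hc⟩ := h χ hχ
  exact Submodule.mem_span_singleton.2 ⟨c, funext fun g => (hc g).symm⟩

end CfsgLib.BlockStar.EqualDeg
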